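import Mathlib.Algebra.Algebra.Epi
import Mathlib.RingTheory.Flat.FaithfullyFlat.Basic
import Mathlib.RingTheory.Localization.BaseChange
import Mathlib.RingTheory.LocalRing.ResidueField.Fiber
import Mathlib.LinearAlgebra.Dimension.Finite

set_option autoImplicit false
universe u v w
open TensorProduct

namespace Groth.Agent.Epi3

variable {R : Type u} {S : Type v} [CommRing R] [CommRing S] [Algebra R S]

lemma bijective_of_faithfullyFlat [Module.FaithfullyFlat R S] [Algebra.IsEpi R S] :
    Function.Bijective (algebraMap R S) := by
  have key : Function.Bijective ((Algebra.linearMap R S).lTensor S) := by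
    constructor
    · refine Function.Injective.of_comp (f := TensorProduct.lift (LinearMap.mul R S)) ?_
      have : ⇑(TensorProduct.lift (LinearMap.mul R S)) ∘ ⇑((Algebra.linearMap R S).lTensor S) =
          ⇑(TensorProduct.rid R S) := by
        funext x
        induction x using TensorProduct.induction_on with
        | zero => simp
        | tmul s r => simp [Algebra.smul_def, mul_comm]
        | add a b ha hb => simp only [Function.comp_apply, map_add] at *; rw [ha, hb]
      rw [this]
      exact (TensorProduct.rid R S).injective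
    · intro x
      refine ⟨TensorProduct.lift (LinearMap.mul R S) x ⊗ₜ 1, ?_⟩
      apply Algebra.IsEpi.injective_lift_mul
      simp
  exact (Module.FaithfullyFlat.lTensor_bijective_iff_bijective R S _).mp key

lemma bijective_over_field {k : Type u} {A : Type v} [Field k] [CommRing A] [Algebra k A]
    [Algebra.IsEpi k A] : Subsingleton A ∨ Function.Bijective (algebraMap k A) := by
  rcases subsingleton_or_nontrivial A with h | h
  · exact Or.inl h
  · exact Or.inr bijective_of_faithfullyFlat

/-- Transporting the epimorphism identity along a semilinear change of rings. -/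
lemma isEpi_of_span {R' : Type w} {S' : Type*} [CommRing R'] [CommRing S'] [Algebra R' S']
    [Algebra R R'] [Algebra R S'] [IsScalarTower R R' S'] [Algebra.IsEpi R S]
    (φ : S →ₐ[R] S')
    (hspan : ∀ x : S', x ∈ Submodule.span R' (Set.range φ)) : Algebra.IsEpi R' S' := by
  rw [Algebra.isEpi_iff_forall_one_tmul_eq]
  intro x
  induction hspan x using Submodule.span_induction with
  | zero => simp
  | add a b _ _ ha hb => rw [tmul_add, add_tmul, ha, hb]
  | smul c a _ ha => rw [tmul_smul, ha, smul_tmul']
  | mem y hy =>
    obtain ⟨s, rfl⟩ := hy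
    let ψ : S ⊗[R] S →ₗ[R] S' ⊗[R'] S' := TensorProduct.lift
      (LinearMap.mk₂ R (fun a b => φ a ⊗ₜ[R'] φ b)
        (fun _ _ _ => by rw [map_add, add_tmul])
        (fun _ _ _ => by rw [map_smul, smul_tmul'])
        (fun _ _ _ => by rw [map_add, tmul_add])
        (fun _ _ _ => by rw [map_smul, tmul_smul]))
    simpa [ψ] using congrArg ψ ((Algebra.isEpi_iff_forall_one_tmul_eq R S).mp inferInstance s)

lemma isEpi_fiber [Algebra.IsEpi R S] (p : Ideal R) [p.IsPrime] :
    Algebra.IsEpi p.ResidueField (p.Fiber S) := by
  refine isEpi_of_span Algebra.TensorProduct.includeRight fun x => ?_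
  induction x using TensorProduct.induction_on with
  | zero => exact zero_mem _
  | add a b ha hb => exact add_mem ha hb
  | tmul c s =>
    rw [show c ⊗ₜ[R] s = c • ((1 : p.ResidueField) ⊗ₜ[R] s) by rw [smul_tmul', smul_eq_mul, mul_one]]
    exact Submodule.smul_mem _ _ (Submodule.subset_span ⟨s, rfl⟩)

lemma fiber_dichotomy [Algebra.IsEpi R S] (p : Ideal R) [p.IsPrime] :
    Subsingleton (p.Fiber S) ∨ Function.Bijective (algebraMap p.ResidueField (p.Fiber S)) :=
  have := isEpi_fiber (S := S) p
  bijective_over_field

lemma comap_injective [Algebra.IsEpi R S] :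
    Function.Injective (PrimeSpectrum.comap (algebraMap R S)) := by
  intro q₁ q₂ h
  let p := PrimeSpectrum.comap (algebraMap R S) q₂
  let e := PrimeSpectrum.preimageEquivFiber R S p
  have : Subsingleton (PrimeSpectrum (p.asIdeal.Fiber S)) := by
    rcases fiber_dichotomy (S := S) p.asIdeal with h | h
    · infer_instance
    · exact (PrimeSpectrum.comap_injective_of_surjective _ h.2).subsingleton
  exact congrArg Subtype.val (e.injective (Subsingleton.elim (e ⟨q₁, h⟩) (e ⟨q₂, rfl⟩)))

lemma isEpi_localization [Algebra.IsEpi R S] (p : Ideal R) [p.IsPrime] :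
    Algebra.IsEpi (Localization.AtPrime p)
      (Localization (Algebra.algebraMapSubmonoid S p.primeCompl)) := by
  refine isEpi_of_span (IsScalarTower.toAlgHom R S _) fun x => ?_
  obtain ⟨⟨a, t, u, hu, rfl⟩, h⟩ := IsLocalization.surj (Algebra.algebraMapSubmonoid S p.primeCompl) x
  obtain ⟨w, hw⟩ :=
    (IsLocalization.map_units (Localization.AtPrime p) (⟨u, hu⟩ : p.primeCompl)).exists_left_inv
  have hx : x = w • algebraMap S (Localization (Algebra.algebraMapSubmonoid S p.primeCompl)) a := by
    rw [← h, ← IsScalarTower.algebraMap_apply R S,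
      IsScalarTower.algebraMap_apply R (Localization.AtPrime p), mul_comm x, ← Algebra.smul_def,
      smul_smul, hw, one_smul]
  rw [hx]
  exact Submodule.smul_mem _ _ (Submodule.subset_span ⟨a, rfl⟩)

lemma isEpi_of_localization
    (H : ∀ (p : Ideal R) [p.IsPrime], Algebra.IsEpi (Localization.AtPrime p)
      (Localization (Algebra.algebraMapSubmonoid S p.primeCompl))) : Algebra.IsEpi R S := by
  rw [Algebra.isEpi_iff_forall_one_tmul_eq]
  intro s
  rw [← sub_eq_zero]
  set d := (1 : S) ⊗ₜ[R] s - s ⊗ₜ[R] 1
  by_contra hd
  have htop : LinearMap.ker (LinearMap.toSpanSingleton R _ d) ≠ ⊤ := fun h => hd <| by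
    simpa using LinearMap.congr_fun (LinearMap.ker_eq_top.mp h) 1
  obtain ⟨m, hm, hle⟩ := Ideal.exists_le_maximal _ htop
  have := hm.isPrime
  let T := Localization (Algebra.algebraMapSubmonoid S m.primeCompl)
  let g : S →ₗ[R] T := (IsScalarTower.toAlgHom R S T).toLinearMap
  have hg : IsLocalizedModule m.primeCompl g := isLocalizedModule_iff_isLocalization.mpr inferInstance
  have := IsLocalization.tensorProduct_compatibleSMul m.primeCompl (Localization.AtPrime m) T T
  have h0 : TensorProduct.map g g d = 0 := by
    have h1 := congrArg (equivOfCompatibleSMul R (Localization.AtPrime m) (Localization.AtPrime m) T T)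
      ((Algebra.isEpi_iff_forall_one_tmul_eq (Localization.AtPrime m) T).mp (H m) (algebraMap S T s))
    simp only [d, map_sub, TensorProduct.map_tmul]
    rw [sub_eq_zero]
    simp only [g, AlgHom.toLinearMap_apply, IsScalarTower.toAlgHom_apply, map_one]
    exact h1
  obtain ⟨u, hu⟩ := (IsLocalizedModule.eq_zero_iff m.primeCompl (TensorProduct.map g g)).mp h0
  exact u.2 (hle hu)

end Groth.Agent.Epi3
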