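import Mathlib.Algebra.Algebra.Epi
import Mathlib.LinearAlgebra.TensorProduct.RightExactness
import Mathlib.SetTheory.Cardinal.Arithmetic
import Mathlib.LinearAlgebra.TensorProduct.Finiteness

set_option autoImplicit false
universe u
open TensorProduct Cardinal

namespace Groth.Agent.Epi3

variable {R S : Type u} [CommRing R] [CommRing S] [Algebra R S]

lemma exists_pairs {F N Q : Type u} [AddCommGroup F] [Module R F] [AddCommGroup N] [Module R N]
    [AddCommGroup Q] [Module R Q] (π : F →ₗ[R] N) (hπ : Function.Surjective π) (y : F ⊗[R] Q)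
    (hy : π.rTensor Q y = 0) :
    ∃ T : Finset (LinearMap.ker π × Q), ∑ p ∈ T, (p.1 : F) ⊗ₜ[R] p.2 = y := by
  obtain ⟨z, hz⟩ := (rTensor_exact Q (LinearMap.exact_subtype_ker_map π) hπ y).1 hy
  obtain ⟨T, rfl⟩ := TensorProduct.exists_finset z
  exact ⟨T, by simpa using hz⟩

/-- Mazet's description of the elements of an epimorphic extension. -/
lemma exists_matrix_data [Algebra.IsEpi R S] (g : S) :
    ∃ (n m : ℕ) (P : Fin n → Fin m → R) (a : Fin m → R) (b : Fin n → R) (X : Fin n → S)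
      (Y : Fin m → S), (∀ j, ∑ i, X i * algebraMap R S (P i j) = algebraMap R S (a j)) ∧
      (∀ i, ∑ j, algebraMap R S (P i j) * Y j = algebraMap R S (b i)) ∧
      g = ∑ i, X i * algebraMap R S (b i) := by
  classical
  by_cases hg : g = 1
  · exact ⟨1, 1, fun _ _ => 1, fun _ => 1, fun _ => 1, fun _ => 1, fun _ => 1, by simp, by simp,
      by simp [hg]⟩
  let π : (S →₀ R) →ₗ[R] S := Finsupp.linearCombination R id
  have hπ : Function.Surjective π := fun x => ⟨Finsupp.single x 1, by simp [π]⟩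
  let y : (S →₀ R) ⊗[R] S := Finsupp.single 1 1 ⊗ₜ g - Finsupp.single g 1 ⊗ₜ 1
  have hy : π.rTensor S y = 0 := by
    simp [y, π, (Algebra.isEpi_iff_forall_one_tmul_eq R S).mp inferInstance g]
  obtain ⟨T, hz⟩ := exists_pairs π hπ y hy
  let s : Finset S := (insert g (T.biUnion fun p => (p.1 : S →₀ R).support)).erase 1
  let ev : S → (S →₀ R) ⊗[R] S →ₗ[R] S := fun i =>
    TensorProduct.lift ((LinearMap.lsmul R S).comp (Finsupp.lapply i))
  have hev : ∀ i, ∑ p ∈ T, (p.1 : S →₀ R) i • p.2 =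
      Finsupp.single (1 : S) (1 : R) i • g - Finsupp.single g (1 : R) i • (1 : S) := by
    intro i
    have := congrArg (ev i) hz
    simpa [ev, y] using this
  have hrel : ∀ p ∈ T, ∑ i ∈ s, i * algebraMap R S ((p.1 : S →₀ R) i)
      = - algebraMap R S ((p.1 : S →₀ R) 1) := by
    intro p hp
    have h0 : π (p.1 : S →₀ R) = 0 := p.1.2
    have hsub : (p.1 : S →₀ R).support ⊆ insert g (T.biUnion fun p => (p.1 : S →₀ R).support) :=
      fun a ha => Finset.mem_insert_of_mem (Finset.mem_biUnion.mpr ⟨p, hp, ha⟩)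
    rw [show π (p.1 : S →₀ R) = ∑ i ∈ insert g (T.biUnion fun p => (p.1 : S →₀ R).support),
        i * algebraMap R S ((p.1 : S →₀ R) i) from by
      simp only [π, Finsupp.linearCombination_apply, id_eq]
      rw [Finsupp.sum_of_support_subset _ hsub _ (by simp)]
      exact Finset.sum_congr rfl fun i _ => by rw [Algebra.smul_def, mul_comm]] at h0
    by_cases h1 : (1 : S) ∈ insert g (T.biUnion fun p => (p.1 : S →₀ R).support)
    · rw [← Finset.add_sum_erase _ _ h1, one_mul] at h0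
      exact eq_neg_of_add_eq_zero_right h0
    · have hp1 : (p.1 : S →₀ R) 1 = 0 := Finsupp.notMem_support_iff.mp fun h => h1 (hsub h)
      rw [show s = _ from Finset.erase_eq_of_notMem h1, h0, hp1]
      simp
  let e := s.equivFin.symm
  let d := T.equivFin.symm
  refine ⟨s.card, T.card, fun i j => ((d j).1.1 : S →₀ R) (e i).1,
    fun j => ((d j).1.1 : S →₀ R) 1, fun i => - Finsupp.single g (1 : R) (e i).1,
    fun i => - (e i).1, fun j => (d j).1.2, fun j => ?_, fun i => ?_, ?_⟩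
  · simp only [neg_mul, Finset.sum_neg_distrib]
    rw [e.sum_comp (fun i : s => (i : S) * algebraMap R S (((d j).1.1 : S →₀ R) i)),
      Finset.sum_coe_sort s (fun i => i * algebraMap R S (((d j).1.1 : S →₀ R) i)),
      hrel _ (d j).2, neg_neg]
  · rw [d.sum_comp (fun p : T => algebraMap R S ((p.1.1 : S →₀ R) (e i).1) * p.1.2),
      Finset.sum_coe_sort T (fun p => algebraMap R S ((p.1 : S →₀ R) (e i).1) * p.2)]
    simp only [← Algebra.smul_def]
    rw [hev, Finsupp.single_eq_of_ne (Finset.ne_of_mem_erase (e i).2)]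
    simp [Algebra.smul_def]
  · simp only [map_neg, neg_mul_neg]
    rw [e.sum_comp (fun i : s => (i : S) * algebraMap R S (Finsupp.single g (1 : R) i)),
      Finset.sum_coe_sort s (fun i => i * algebraMap R S (Finsupp.single g (1 : R) i)),
      Finset.sum_eq_single g (fun i _ hi => by simp [Finsupp.single_eq_of_ne hi])
        (fun h => absurd (Finset.mem_erase.mpr ⟨hg, Finset.mem_insert_self _ _⟩) h)]
    simp

lemma card_le [Algebra.IsEpi R S] [Infinite R] : Cardinal.mk S ≤ Cardinal.mk R := by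
  classical
  let D := Σ n m : ℕ, (Fin n → Fin m → R) × (Fin m → R) × (Fin n → R)
  choose n m P a b X Y hXP hPY hg using exists_matrix_data (R := R) (S := S)
  let F : S → D := fun g => ⟨n g, m g, P g, a g, b g⟩
  have hF : Function.Injective F := by
    intro g g' h
    have key : ∀ (n m : ℕ) (P : Fin n → Fin m → R) (a : Fin m → R) (b : Fin n → R)
        (X X' : Fin n → S) (Y' : Fin m → S),
        (∀ j, ∑ i, X i * algebraMap R S (P i j) = algebraMap R S (a j)) →
        (∀ j, ∑ i, X' i * algebraMap R S (P i j) = algebraMap R S (a j)) →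
        (∀ i, ∑ j, algebraMap R S (P i j) * Y' j = algebraMap R S (b i)) →
        ∑ i, X i * algebraMap R S (b i) = ∑ i, X' i * algebraMap R S (b i) := by
      intro n m P a b X X' Y' h h' hy
      simp only [← hy, Finset.mul_sum, ← mul_assoc]
      rw [Finset.sum_comm, Finset.sum_comm (f := fun i j => X' i * _ * Y' j)]
      simp only [← Finset.sum_mul, h, h']
    obtain ⟨D, hD, hD'⟩ : ∃ D : D, F g = D ∧ F g' = D := ⟨F g, rfl, h.symm⟩
    obtain ⟨N, M, P₀, a₀, b₀⟩ := D
    have : ∀ x, F x = ⟨N, M, P₀, a₀, b₀⟩ → ∃ (X₀ : Fin N → S) (Y₀ : Fin M → S),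
        (∀ j, ∑ i, X₀ i * algebraMap R S (P₀ i j) = algebraMap R S (a₀ j)) ∧
        (∀ i, ∑ j, algebraMap R S (P₀ i j) * Y₀ j = algebraMap R S (b₀ i)) ∧
        x = ∑ i, X₀ i * algebraMap R S (b₀ i) := by
      intro x hx
      cases hx
      exact ⟨X x, Y x, hXP x, hPY x, hg x⟩
    obtain ⟨X₁, Y₁, h1, -, e1⟩ := this g hD
    obtain ⟨X₂, Y₂, h2, h2', e2⟩ := this g' hD'
    rw [e1, e2]
    exact key N M P₀ a₀ b₀ X₁ X₂ Y₂ h1 h2 h2'
  refine (Cardinal.mk_le_of_injective hF).trans ?_
  have hω : ℵ₀ ≤ #R := Cardinal.aleph0_le_mk R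
  have hpi : ∀ (k : ℕ) (Z : Type u), #Z ≤ #R → #(Fin k → Z) ≤ #R := by
    intro k Z hZ
    rw [Cardinal.mk_arrow, Cardinal.mk_fin, Cardinal.lift_uzero, Cardinal.lift_natCast]
    exact (Cardinal.power_le_power_right hZ).trans (Cardinal.power_nat_le hω)
  have hsig : ∀ Z : ℕ → Type u, (∀ k, #(Z k) ≤ #R) → #(Σ k, Z k) ≤ #R := by
    intro Z hZ
    let emb := fun k => Classical.choice ((Cardinal.le_def _ _).mp (hZ k))
    refine (Cardinal.mk_le_of_injective (f := fun x : Σ k, Z k =>
      ((ULift.up x.1 : ULift.{u} ℕ), emb x.1 x.2)) ?_).trans ?_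
    · rintro ⟨k, z⟩ ⟨k', z'⟩ h
      simp only [Prod.mk.injEq, ULift.up.injEq] at h
      obtain ⟨rfl, h⟩ := h
      rw [(emb k).injective h]
    · rw [Cardinal.mk_prod, Cardinal.lift_id, Cardinal.lift_id, Cardinal.mk_uLift, Cardinal.mk_nat,
        Cardinal.lift_aleph0, Cardinal.aleph0_mul_eq hω]
  refine hsig _ fun k => hsig _ fun l => ?_
  rw [Cardinal.mk_prod, Cardinal.lift_id, Cardinal.lift_id, Cardinal.mk_prod, Cardinal.lift_id,
    Cardinal.lift_id]
  have h1 := hpi k _ (hpi l R le_rfl)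
  exact (mul_le_mul' h1 (mul_le_mul' (hpi l R le_rfl) (hpi k R le_rfl))).trans
    (by rw [Cardinal.mul_eq_self hω, Cardinal.mul_eq_self hω])

end Groth.Agent.Epi3
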